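import Groth.Agent.ElemTrLib.Hull
import Groth.Agent.S8909
import Groth.Agent.S3841
import Groth.Agent.RegLocal.UFD
import Groth.Agent.SyzLib.Sheaf
import Groth.Agent.DCohLib.ClosedPush
import Groth.Agent.IdealStalkLib.Cartier
import Groth.Agent.IdealMulLib.Basic
import Groth.Agent.VBLib.Regular

/-!
# Determinants of elementary transformations along an integral divisor
-/

set_option autoImplicit false
set_option backward.isDefEq.respectTransparency false
set_option linter.style.haveILetI false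
universe u
open CategoryTheory CategoryTheory.Limits AlgebraicGeometry TopologicalSpace Module
open Groth.Agent.PullbackMod

noncomputable section

namespace Groth.Agent.ElemTrLib

open Groth.Agent.RefOne Groth.Agent.DCohLib Groth.Agent.ExtSeq DivisorialLib IsLocalRing

variable {X : Scheme.{u}}

theorem isCoh_extPow [IsLocallyNoetherian X] {F L : X.Modules} (hF : Coh.IsCoh F) {r : ℕ} (h : ExtPow.IsExtPow r F L) :
    Coh.IsCoh L := by
  haveI := hF.1
  haveI := ExtPowLib.isQCoh_of_isExtPow h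
  exact QCohLib.isCoh_of_finite L fun W hW => ExtPowLib.isFT_of_isExtPow F r hF.2 h hW

variable [IsIntegral X] [IsLocallyNoetherian X]

/-- The cokernel of an elementary transformation at a point: generators and annihilator. -/
theorem exists_coker {𝓓 : X.IdealSheafData} (hDi : IsIntegral 𝓓.subscheme) {s : ℕ} {G : (𝓓.subscheme).Modules}
    (hG : FlatMod.IsFinLocFreeOfRank s G) {F F' : X.Modules} {a : F ⟶ F'}
    {b : F' ⟶ (Scheme.Modules.pushforward 𝓓.subschemeι).obj G} {w : a ≫ b = 0}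
    (hex : (ShortComplex.mk a b w).Exact) (hb : Epi b) :
    (∀ y, y ∉ 𝓓.support → Function.Surjective (stalkLin a y)) ∧
      (∀ π ∈ maximalIdeal (X.presheaf.stalk (genPt 𝓓)), ∀ m, π • m ∈ LinearMap.range (stalkLin a (genPt 𝓓))) ∧
      ∃ Gs : Fin s → F'.presheaf.stalk (genPt 𝓓),
        LinearMap.range (stalkLin a (genPt 𝓓)) ⊔ Submodule.span _ (Set.range Gs) = ⊤ := by
  have hexs : ∀ y, Function.Exact (stalkLin a y) (stalkLin b y) := fun y =>
    SyzLib.exact_stalkLin' (ShortComplex.mk a b w) hex y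
  have hsurj : ∀ y, Function.Surjective (stalkLin b y) := (epi_iff_stalk b).1 hb
  let i := 𝓓.subschemeι
  let x := genericPoint 𝓓.subscheme
  have hP := bijective_pushStalk i G x
  have hker : ∀ c : X.presheaf.stalk (genPt 𝓓), c ∈ maximalIdeal (X.presheaf.stalk (genPt 𝓓)) → i.stalkMap x c = 0 := fun c hc => by
    have h1 : c ∈ RingHom.ker (𝓓.subschemeι.stalkMap x).hom := by
      rw [IdealStalkLib.ker_stalkMap_subschemeι]
      exact (stalkIdeal_genPt (D := 𝓓)).ge hc
    exact h1
  refine ⟨fun y hy z => ?_, fun π hπ m => ?_, ?_⟩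
  · have hr : y ∉ Set.range i := by
      rw [Scheme.IdealSheafData.range_subschemeι]; exact hy
    haveI := subsingleton_stalk_pushforward i G y hr
    exact ((hexs y) z).1 (Subsingleton.elim _ _)
  · refine LinearMap.mem_range.2 ((hexs (genPt 𝓓) (π • m)).1 ?_)
    rw [map_smul]
    refine hP.1 ((pushStalk_smul i G x π _).trans ?_)
    rw [hker π hπ, zero_smul, map_zero]
  · obtain ⟨e⟩ := CurveLib.freeAt_of_isFinLocFreeOfRank hG x
    let el : Fin s → G.presheaf.stalk x := fun l => e.symm (Pi.single l 1)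
    choose n hn using fun l => hP.2 (el l)
    choose g hg using fun l => hsurj (genPt 𝓓) (n l)
    refine ⟨g, eq_top_iff.2 fun m _ => ?_⟩
    have hexc : ∀ l : Fin s, ∃ c : X.presheaf.stalk (genPt 𝓓), i.stalkMap x c = e (pushStalk i G x (stalkLin b (genPt 𝓓) m)) l :=
      fun l => i.stalkMap_surjective x _
    choose c hc using hexc
    refine Submodule.mem_sup.2 ⟨m - ∑ l, c l • g l, LinearMap.mem_range.2 ((hexs (genPt 𝓓) _).1 ?_),
      ∑ l, c l • g l, Submodule.sum_mem _ fun l _ => Submodule.smul_mem _ _ (Submodule.subset_span ⟨l, rfl⟩),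
      sub_add_cancel _ _⟩
    refine hP.1 ?_
    rw [map_zero, map_sub, map_sum]
    show pushStalk i G x (stalkLin b (genPt 𝓓) m - ∑ l, stalkLin b (genPt 𝓓) (c l • g l)) = 0
    rw [map_sub, map_sum, sub_eq_zero]
    refine Eq.trans ?_ (Finset.sum_congr rfl fun l _ => ?_ :
      (∑ l, e (pushStalk i G x (stalkLin b (genPt 𝓓) m)) l • el l) = _)
    · refine e.injective ?_
      rw [map_sum]
      funext j
      simp [el, Pi.single_apply]
    · rw [map_smul]
      refine Eq.trans ?_ (pushStalk_smul i G x (c l) _).symm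
      rw [hc l]
      exact congrArg _ ((congrArg (pushStalk i G x) (hg l)).trans (hn l)).symm

theorem main (X : Scheme.{u}) [IsIntegral X] [IsLocallyNoetherian X]
    (hreg : ∀ x : ↥X, IsRegularLocalRing ↑(X.presheaf.stalk x)) (hN : Pi1.IsNormalScheme X)
    (𝓓 : X.IdealSheafData) (hD : BlowUp.IsEffCartierIdeal 𝓓) (hDi : IsIntegral 𝓓.subscheme) (s : ℕ)
    (G : (𝓓.subscheme).Modules) (hG : FlatMod.IsFinLocFreeOfRank s G) (F F' : X.Modules) (hF : Coh.IsCoh F)
    (hF' : Coh.IsCoh F') (a : F ⟶ F') (b : F' ⟶ (Scheme.Modules.pushforward 𝓓.subschemeι).obj G) (w : a ≫ b = 0)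
    (hex : (ShortComplex.mk a b w).Exact) (hb : Epi b) (r : ℕ)
    (hU : ∃ U : X.Opens, (U : Set ↥X).Nonempty ∧ FlatMod.IsFinLocFreeOfRank r (F.restrict U.ι) ∧
      FlatMod.IsFinLocFreeOfRank r (F'.restrict U.ι))
    (L L' : X.Modules) (hL : ExtPow.IsExtPow r F L) (hL' : ExtPow.IsExtPow r F' L') :
    PicF.IsInvertible (RefHull.ddual L) ∧ PicF.IsInvertible (RefHull.ddual L') ∧
      ∃ k : ℕ, k ≤ min s r ∧
        Nonempty (RefHull.ddual L' ≅
          CohB1.tensorMod (RefHull.ddual L) (CohB1.tensorPow (RefHull.dual (ClSub.idealMod 𝓓)) k)) := by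
  classical
  haveI := hF.1
  haveI := hF'.1
  have hLc := isCoh_extPow hF hL
  have hLc' := isCoh_extPow hF' hL'
  obtain ⟨d⟩ := nonempty_EP hL
  obtain ⟨d'⟩ := nonempty_EP hL'
  obtain ⟨hcoker, hkillξ, Gs, hGs⟩ := exists_coker hDi hG hex hb
  let η := genericPoint X
  let ξ := genPt 𝓓
  haveI := hDi
  have hη0 : Order.coheight η = 0 := Order.coheight_eq_zero.2 (fun z hz => (show z ≤ η from spec_gen z))
  have hηD : η ∉ 𝓓.support := fun h => S8909.coheight_ne_zero hD h hη0
  have hξ1 : Order.coheight ξ = 1 := S8909.coheight_genPt hD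
  have hout : ∀ y : X, Order.coheight y = 1 → y ≠ ξ → y ∉ 𝓓.support := fun y hy hne h => by
    have h1 := S8909.succ_le (specializes_genPt 𝓓 h) (Ne.symm hne)
    rw [hy, hξ1] at h1
    exact absurd h1 (by decide)
  obtain ⟨U, ⟨u, hu⟩, hUF, hUF'⟩ := hU
  have hηU : η ∈ U := (spec_gen u).mem_open U.2 hu
  obtain ⟨eF⟩ := freeAt_of_restrict hUF hηU
  obtain ⟨eF'⟩ := freeAt_of_restrict hUF' hηU
  have hbij : Function.Bijective (stalkLin a η) := by
    have hs := hcoker η hηD
    refine ⟨?_, hs⟩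
    haveI := VBLib.finite_generic hF'
    have h1 := OrzechProperty.injective_of_surjective_endomorphism
      ((stalkLin a η).comp ((eF'.trans eF.symm).toLinearMap)) (hs.comp (eF'.trans eF.symm).surjective)
    exact fun p q hpq => (eF'.trans eF.symm).symm.injective (h1 (by simpa using hpq))
  let bF : Basis (Fin r) (X.presheaf.stalk η) (F.presheaf.stalk η) := Basis.ofEquivFun eF
  let bF' := bF.map (LinearEquiv.ofBijective (stalkLin a η) hbij)
  obtain ⟨w₀, hw₀, H⟩ := exists_genDet d bF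
  obtain ⟨w₁, hw₁, H'⟩ := exists_genDet d' bF'
  have key : ∀ y : X, Order.coheight y = 1 → ∃ (δ δ' : X.presheaf.stalk η) (c : X.presheaf.stalk y) (m : ℕ),
      c ≠ 0 ∧ δ = toK y c * δ' ∧ m ≤ (if y = ξ then min s r else 0) ∧ Ring.ord (X.presheaf.stalk y) c ≤ m ∧
      IsUnit δ ∧ IsUnit δ' ∧
      (∃ t, toGen L y t = δ • w₀) ∧ (∀ z, ∃ q, toGen L y z = (toK y q * δ) • w₀) ∧
      (∃ t, toGen L' y t = δ' • w₁) ∧ (∀ z, ∃ q, toGen L' y z = (toK y q * δ') • w₁) := by
    intro y hy
    haveI := isDVR hN hy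
    haveI := PullbackMod.finite_stalk_of_isFT hF.2 y
    haveI := PullbackMod.finite_stalk_of_isFT hF'.2 y
    letI : Algebra (X.presheaf.stalk y) (X.presheaf.stalk η) := (toK y).toAlgebra
    haveI : IsFractionRing (X.presheaf.stalk y) (X.presheaf.stalk η) := isFractionRing_toK y
    letI := Module.compHom (F.presheaf.stalk η) (toK y)
    letI := Module.compHom (F'.presheaf.stalk η) (toK y)
    haveI : IsScalarTower (X.presheaf.stalk y) (X.presheaf.stalk η) (F.presheaf.stalk η) :=
      .of_algebraMap_smul fun _ _ => rfl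
    haveI : IsScalarTower (X.presheaf.stalk y) (X.presheaf.stalk η) (F'.presheaf.stalk η) :=
      .of_algebraMap_smul fun _ _ => rfl
    let g : F.presheaf.stalk y →ₗ[X.presheaf.stalk y] F.presheaf.stalk η :=
      { toFun := toGen F y, map_add' := fun p q => map_add _ p q, map_smul' := fun c m => toGen_smul F y c m }
    let g' : F'.presheaf.stalk y →ₗ[X.presheaf.stalk y] F'.presheaf.stalk η :=
      { toFun := toGen F' y, map_add' := fun p q => map_add _ p q, map_smul' := fun c m => toGen_smul F' y c m }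
    obtain ⟨π, hπ⟩ := IsDiscreteValuationRing.exists_irreducible (X.presheaf.stalk y)
    have hgen : ∀ v : F.presheaf.stalk η, ∃ c : X.presheaf.stalk y, c ≠ 0 ∧ c • v ∈ LinearMap.range g := fun v => by
      obtain ⟨c, m, hc, hcm⟩ := exists_smul_mem_range (F := F) y v
      exact ⟨c, hc, m, hcm.symm⟩
    have hgen' : ∀ v : F'.presheaf.stalk η, ∃ c : X.presheaf.stalk y, c ≠ 0 ∧ c • v ∈ LinearMap.range g' := fun v => by
      obtain ⟨c, m, hc, hcm⟩ := exists_smul_mem_range (F := F') y v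
      exact ⟨c, hc, m, hcm.symm⟩
    obtain ⟨n, hn, Gy, hkill, hGy⟩ : ∃ (n : ℕ) (_ : min n r ≤ if y = ξ then min s r else 0) (Gy : Fin n → F'.presheaf.stalk y),
        (∀ m, π • m ∈ LinearMap.range (stalkLin a y)) ∧
          LinearMap.range (stalkLin a y) ⊔ Submodule.span _ (Set.range Gy) = ⊤ := by
      by_cases h : y = ξ
      · subst h
        exact ⟨s, by rw [if_pos rfl], Gs, hkillξ π hπ.not_isUnit, hGs⟩
      · have hs := hcoker y (hout y hy h)
        exact ⟨0, by simp, Fin.elim0, fun m => hs _, by rw [LinearMap.range_eq_top.2 hs, top_sup_eq]⟩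
    obtain ⟨δ, δ', c, m, hδ, hδ', hcδ, hmn, hmr, hcm, hspan, ⟨v, hv⟩, hspan', ⟨v', hv'⟩⟩ :=
      exists_elem (K := X.presheaf.stalk η) g g' hgen hgen' (stalkLin a y) (stalkLin a η) (stalkLin_toGen a y) bF bF'
        (fun i => by simp [bF']) hπ.ne_zero hπ.maximalIdeal_eq hkill Gy hGy
    have hc0 : c ≠ 0 := fun h0 => hδ.ne_zero (by rw [hcδ, h0, map_zero, zero_mul])
    refine ⟨δ, δ', c, m, hc0, hcδ, (le_min hmn hmr).trans hn, ?_, hδ, hδ', ?_, toGen_mem H y hspan, ?_, toGen_mem H' y hspan'⟩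
    · rw [Ring.ord_eq_addVal, ← hπ.addVal_pow]
      exact IsDiscreteValuationRing.addVal_le_iff_dvd.2 hcm
    · obtain ⟨z, hz⟩ := exists_mem_toGen H y v
      exact ⟨z, hz.trans (congrArg (· • w₀) hv)⟩
    · obtain ⟨z, hz⟩ := exists_mem_toGen H' y v'
      exact ⟨z, hz.trans (congrArg (· • w₁) hv')⟩
  choose δ δ' c m hc0 hcδ hm hcm hδ hδ' ht hspan ht' hspan' using key
  let dA : X → ℤ := fun y => if h : Order.coheight y = 1 then - Scheme.ord (show X.functionField from δ y h) y else 0
  let dB : X → ℤ := fun y => if h : Order.coheight y = 1 then - Scheme.ord (show X.functionField from δ' y h) y else 0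
  have hA : S16085.HasDiv (RefHull.ddual L) dA := hasDiv_ddual hLc (bijective_smul_w H hw₀) dA fun y hy => by
    obtain ⟨t, ht⟩ := ht y hy
    exact ⟨t, δ y hy, hδ y hy, ht, hspan y hy, dif_pos hy⟩
  have hB : S16085.HasDiv (RefHull.ddual L') dB := hasDiv_ddual hLc' (bijective_smul_w H' hw₁) dB fun y hy => by
    obtain ⟨t, ht⟩ := ht' y hy
    exact ⟨t, δ' y hy, hδ' y hy, ht, hspan' y hy, dif_pos hy⟩
  let v : ∀ y : X, Order.coheight y = 1 → ℕ := fun y hy => (Ring.ord (X.presheaf.stalk y) (c y hy)).toNat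
  have hdiff : ∀ (y : X) (hy : Order.coheight y = 1), dB y = dA y + v y hy := fun y hy => by
    have hne : (show X.functionField from toK y (c y hy)) ≠ 0 := fun h0 =>
      hc0 y hy (toK_injective y (h0.trans (map_zero _).symm))
    have h1 := Scheme.ord_mul (x := y) hne (show (show X.functionField from δ' y hy) ≠ 0 from (hδ' y hy).ne_zero)
    rw [scheme_ord_toK hy (hc0 y hy)] at h1
    simp only [dA, dB, dif_pos hy]
    rw [hcδ y hy]
    have h2 : Scheme.ord (show X.functionField from toK y (c y hy) * δ' y hy) y = (v y hy : ℤ) + Scheme.ord (show X.functionField from δ' y hy) y := h1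
    rw [h2]
    ring
  have hv : ∀ (y : X) (hy : Order.coheight y = 1), v y hy ≤ if y = ξ then min s r else 0 := fun y hy =>
    ((ENat.toNat_le_toNat (hcm y hy) (ENat.coe_ne_top _)).trans (ENat.toNat_coe _).le).trans (hm y hy)
  have hI := isInvertible_of_hasDiv hreg hA
  refine ⟨hI, isInvertible_of_hasDiv hreg hB, v ξ hξ1, (hv ξ hξ1).trans (by rw [if_pos rfl]), ?_⟩
  have hO : S16085.HasDiv (RefHull.dual (ClSub.idealMod 𝓓)) (fun y => ((if y = ξ then 1 else 0 : ℕ) : ℤ)) := by
    refine hasDiv_dual_idealMod hN 𝓓 (fun y => if y = ξ then 1 else 0) (IdealMulLib.stalkIdeal_eq_top 𝓓 hηD) fun y hy => ?_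
    by_cases h : y = ξ
    · subst h
      rw [if_pos rfl, pow_one]
      exact stalkIdeal_genPt (D := 𝓓)
    · rw [if_neg h, pow_zero, Ideal.one_eq_top]
      exact IdealMulLib.stalkIdeal_eq_top 𝓓 (hout y hy h)
  have hOinv := isInvertible_of_hasDiv hreg hO
  refine hB.iso hN (hasDiv_tensor_invertible hN hA (hasDiv_tensorPow hN hO hOinv _) hI
    (AmpleLib.isInvertible_tensorPow hOinv _)) fun y hy => ?_
  rw [hdiff y hy]
  by_cases h : y = ξ
  · subst h
    simp
  · have h0 := hv y hy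
    rw [if_neg h, Nat.le_zero] at h0
    rw [h0, if_neg h]
    simp

end Groth.Agent.ElemTrLib
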