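import Groth.Agent.DegDevLib.Wedge
import Mathlib.LinearAlgebra.FreeModule.PID
import Mathlib.RingTheory.Localization.Module
import Mathlib.RingTheory.DiscreteValuationRing.Basic
import Mathlib.RingTheory.LocalRing.ResidueField.Basic

/-!
# Determinants of elementary transformations over a discrete valuation ring
-/

set_option autoImplicit false
set_option linter.style.haveILetI false

noncomputable section

open Module IsLocalRing

namespace Groth.Agent.ElemTrLib

variable {R : Type*} [CommRing R]

theorem prod_dvd_pow [IsDomain R] {ι : Type*} [Fintype ι] [DecidableEq ι] (a : ι → R) {π : R} (h : ∀ i, a i ∣ π)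
    (T : Finset ι) (hT : ∀ i, i ∉ T → IsUnit (a i)) : (∏ i, a i) ∣ π ^ T.card := by
  rw [← Finset.prod_mul_prod_compl T a]
  refine ((IsUnit.mul_right_dvd ?_).2 ?_)
  · refine Finset.prod_induction _ _ (fun _ _ ha hb => ha.mul hb) isUnit_one fun i hi => hT i ?_
    simpa using hi
  · rw [← Finset.prod_const]
    exact Finset.prod_dvd_prod_of_dvd _ _ fun i _ => h i

variable [IsDomain R] [IsPrincipalIdealRing R] [IsLocalRing R]

/-- The determinant of rows spanning a submodule with small quotient killed by the uniformizer. -/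
theorem det_dvd_pow {r s : ℕ} (C : Fin r → Fin r → R) {π : R} (hπ0 : π ≠ 0) (hm : maximalIdeal R = Ideal.span {π})
    (hkill : ∀ v : Fin r → R, π • v ∈ Submodule.span R (Set.range C))
    (G : Fin s → Fin r → R) (hG : Submodule.span R (Set.range C) ⊔ Submodule.span R (Set.range G) = ⊤) :
    ∃ m, m ≤ s ∧ m ≤ r ∧ (Pi.basisFun R (Fin r)).det C ∣ π ^ m := by
  classical
  let e := Pi.basisFun R (Fin r)
  let A := Submodule.span R (Set.range C)
  have hrank : finrank R A = finrank R (Fin r → R) := by
    refine le_antisymm (Submodule.finrank_le A) ?_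
    refine LinearMap.finrank_le_finrank_of_injective (f := (π • LinearMap.id).codRestrict A hkill) fun v w h => ?_
    exact smul_right_injective _ hπ0 (congrArg Subtype.val h)
  obtain ⟨bM, a, bA, hbA⟩ := A.exists_smith_normal_form_of_rank_eq e hrank
  have key : ∀ v ∈ A, ∀ i, a i ∣ bM.repr v i := fun v hv i => by
    have h1 : v = ∑ j, bA.repr ⟨v, hv⟩ j • (a j • bM j) := by
      refine (congrArg Subtype.val (bA.sum_repr ⟨v, hv⟩)).symm.trans ?_
      rw [AddSubmonoidClass.coe_finsetSum]
      simp [hbA]
    refine ⟨bA.repr ⟨v, hv⟩ i, ?_⟩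
    conv_lhs => rw [h1]
    simp [Finsupp.single_apply, mul_comm]
  have hadvd : ∀ i, a i ∣ π := fun i => by
    have h := key _ (hkill (bM i)) i
    simpa using h
  let T : Finset (Fin r) := Finset.univ.filter fun i => ¬ IsUnit (a i)
  refine ⟨T.card, ?_, T.card_le_univ.trans (by simp), ?_⟩
  · have hex : ∀ i, ∃ x : Fin s → R, bM i - ∑ l, x l • G l ∈ A := fun i => by
      obtain ⟨u, hu, v, hv, huv⟩ := Submodule.mem_sup.1 (hG.ge (Submodule.mem_top (x := bM i)))
      obtain ⟨x, rfl⟩ := (Submodule.mem_span_range_iff_exists_fun R).1 hv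
      exact ⟨x, by rw [← huv, add_sub_cancel_right]; exact hu⟩
    choose x hx using hex
    let Φ : (↥T → ResidueField R) →ₗ[ResidueField R] (Fin s → ResidueField R) :=
      Fintype.linearCombination (ResidueField R) fun i l => residue R (x i.1 l)
    have hinj : Function.Injective Φ := by
      refine (injective_iff_map_eq_zero Φ).2 fun c hc => ?_
      choose c' hc' using fun i => residue_surjective (c i)
      have hmem : (∑ i, c' i • bM i.1) ∈ A := by
        have h1 : (∑ i, c' i • bM i.1) = (∑ i, c' i • (bM i.1 - ∑ l, x i.1 l • G l)) + ∑ l, (∑ i, c' i * x i.1 l) • G l := by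
          simp only [smul_sub, Finset.sum_sub_distrib, Finset.smul_sum, Finset.sum_smul, mul_smul]
          rw [Finset.sum_comm (s := (Finset.univ : Finset (Fin s)))]
          exact (sub_add_cancel _ _).symm
        rw [h1]
        refine A.add_mem (A.sum_mem fun i _ => A.smul_mem _ (hx i.1)) (A.sum_mem fun l _ => ?_)
        have h2 : (∑ i, c' i * x i.1 l) ∈ maximalIdeal R := by
          rw [← residue_eq_zero_iff, map_sum]
          have h3 := congrFun hc l
          simp only [Φ, Fintype.linearCombination_apply, Finset.sum_apply, Pi.smul_apply, smul_eq_mul, Pi.zero_apply] at h3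
          simpa [map_mul, hc'] using h3
        rw [hm, Ideal.mem_span_singleton'] at h2
        obtain ⟨q, hq⟩ := h2
        rw [← hq, mul_comm, mul_smul]
        exact hkill _
      funext i
      rw [← hc' i]
      refine (residue_eq_zero_iff _).2 (?_ : c' i ∈ maximalIdeal R)
      have h4 := key _ hmem i.1
      have h5 : bM.repr (∑ j, c' j • bM j.1) i.1 = c' i := by
        rw [map_sum, Finsupp.finsetSum_apply, Finset.sum_eq_single i]
        · simp
        · intro j _ hj
          simp [Subtype.coe_ne_coe.2 hj]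
        · simp
      rw [h5] at h4
      obtain ⟨q, hq⟩ := h4
      rw [hq]
      refine Ideal.mul_mem_right _ _ ((mem_maximalIdeal _).2 ?_)
      exact (Finset.mem_filter.1 i.2).2
    have h6 := LinearMap.finrank_le_finrank_of_injective hinj
    simpa using h6
  · let L : (Fin r → R) →ₗ[R] (Fin r → R) := e.constr R C
    have hC : C = L ∘ e := funext fun i => (e.constr_basis R C i).symm
    have hrange : A ≤ LinearMap.range L := Submodule.span_le.2 (by
      rintro _ ⟨i, rfl⟩
      exact ⟨e i, (congrFun hC i).symm⟩)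
    choose w hw using fun i => hrange (bA i).2
    have h1 : e.det (fun i => a i • bM i) = LinearMap.det L * e.det w := by
      rw [← e.det_comp L w]
      exact congrArg _ (funext fun i => ((hw i).trans (hbA i)).symm)
    rw [AlternatingMap.map_smul_univ, smul_eq_mul] at h1
    have h2 : e.det C = LinearMap.det L := by rw [hC, e.det_comp L, e.det_self, mul_one]
    show e.det C ∣ _
    refine dvd_trans ?_ (prod_dvd_pow a hadvd T fun i hi => ?_)
    · rw [h2, ← (e.isUnit_det bM).dvd_mul_right, h1]
      exact dvd_mul_right _ _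
    · simpa [T] using hi

variable {K : Type*} [CommRing K] [Algebra R K] [IsFractionRing R K]

omit [IsPrincipalIdealRing R] [IsLocalRing R] in
theorem isUnit_algebraMap {c : R} (hc : c ≠ 0) : IsUnit (algebraMap R K c) :=
  IsLocalization.map_units K (⟨c, mem_nonZeroDivisors_of_ne_zero hc⟩ : nonZeroDivisors R)

/-- A lattice has a basis. -/
theorem exists_lattice_basis [Nontrivial K] {V : Type*} [AddCommGroup V] [Module R V] [Module K V] [IsScalarTower R K V]
    {M : Type*} [AddCommGroup M] [Module R M] [Module.Finite R M] (g : M →ₗ[R] V)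
    (hspan : ∀ v : V, ∃ c : R, c ≠ 0 ∧ c • v ∈ LinearMap.range g) {r : ℕ} (b : Basis (Fin r) K V) :
    ∃ (n : Fin r → M) (B : Basis (Fin r) K V), (∀ i, B i = g (n i)) ∧
      ∀ m, ∃ q : Fin r → R, g m = ∑ i, q i • g (n i) := by
  classical
  haveI : Module.Finite R (LinearMap.range g) := Module.Finite.of_surjective g.rangeRestrict g.surjective_rangeRestrict
  haveI : Module.IsTorsionFree R (LinearMap.range g) := Module.IsTorsionFree.of_smul_eq_zero fun c m h =>
    (eq_or_ne c 0).imp_right fun hc => Subtype.ext ((isUnit_algebraMap (K := K) hc).smul_left_cancel.1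
      (show algebraMap R K c • (m : V) = algebraMap R K c • (0 : V) by
        rw [smul_zero, algebraMap_smul]; exact congrArg Subtype.val h))
  haveI : Module.Free R (LinearMap.range g) := Module.free_of_finite_type_torsion_free'
  let cb := Module.Free.chooseBasis R (LinearMap.range g)
  have hli : LinearIndependent K fun i => (cb i : V) :=
    (LinearIndependent.iff_fractionRing R K).1 (cb.linearIndependent.map' _ (Submodule.ker_subtype _))
  have hsp : ⊤ ≤ Submodule.span K (Set.range fun i => (cb i : V)) := fun v _ => by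
    obtain ⟨c, hc, hv⟩ := hspan v
    obtain ⟨u, hu⟩ := isUnit_algebraMap (K := K) hc
    have h1 : c • v ∈ Submodule.span K (Set.range fun i => (cb i : V)) := by
      rw [show c • v = ((⟨c • v, hv⟩ : LinearMap.range g) : V) from rfl, ← cb.sum_repr ⟨c • v, hv⟩,
        AddSubmonoidClass.coe_finsetSum]
      exact Submodule.sum_mem _ fun i _ => by
        rw [Submodule.coe_smul, ← algebraMap_smul K]
        exact Submodule.smul_mem _ _ (Submodule.subset_span ⟨i, rfl⟩)
    have h2 := Submodule.smul_mem _ (↑u⁻¹ : K) h1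
    rwa [← algebraMap_smul K c v, ← hu, ← mul_smul, Units.inv_mul, one_smul] at h2
  let B₀ := Basis.mk hli hsp
  have hcard : Fintype.card (Module.Free.ChooseBasisIndex R (LinearMap.range g)) = r := by
    rw [← Module.finrank_eq_card_basis B₀, Module.finrank_eq_card_basis b, Fintype.card_fin]
  let σ := Fintype.equivFinOfCardEq hcard
  choose n hn using fun i => (cb (σ.symm i)).2
  refine ⟨n, B₀.reindex σ, fun i => by rw [hn i]; simp [B₀], fun m => ⟨fun i => cb.repr (g.rangeRestrict m) (σ.symm i), ?_⟩⟩
  have h3 := congrArg Subtype.val (cb.sum_repr (g.rangeRestrict m))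
  rw [AddSubmonoidClass.coe_finsetSum, ← σ.symm.sum_comp] at h3
  refine h3.symm.trans (Finset.sum_congr rfl fun i _ => ?_)
  rw [hn i]; rfl

omit [IsPrincipalIdealRing R] [IsLocalRing R] [IsFractionRing R K] [IsDomain R] in
theorem det_of_coeff {V : Type*} [AddCommGroup V] [Module R V] [Module K V] [IsScalarTower R K V]
    {r : ℕ} (b B : Basis (Fin r) K V) {v : Fin r → V} {q : Fin r → Fin r → R}
    (h : ∀ i, v i = ∑ j, q i j • B j) :
    b.det v = algebraMap R K ((Pi.basisFun R (Fin r)).det q) * b.det B := by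
  have h1 : b.det v = b.det B * B.det v := congrArg (fun f => f v) (AlternatingMap.eq_smul_basis_det B b.det)
  have h2 : v = fun i => ∑ j, (Matrix.of q).map (algebraMap R K) i j • B j := funext fun i => by
    rw [h i]; exact Finset.sum_congr rfl fun j _ => (algebraMap_smul K _ _).symm
  have h3 : (Pi.basisFun R (Fin r)).det q = (Matrix.of q).det := by
    rw [Pi.basisFun_det]
    rfl
  rw [h1, h2, DegDevLib.det_rows, h3, RingHom.map_det, mul_comm]
  rfl

/-- Comparison of two lattices in a generically bijective modification. -/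
theorem exists_elem [Nontrivial K] {V V' : Type*} [AddCommGroup V] [Module R V] [Module K V] [IsScalarTower R K V]
    [AddCommGroup V'] [Module R V'] [Module K V'] [IsScalarTower R K V']
    {M M' : Type*} [AddCommGroup M] [Module R M] [Module.Finite R M] [AddCommGroup M'] [Module R M'] [Module.Finite R M']
    (g : M →ₗ[R] V) (g' : M' →ₗ[R] V') (hg : ∀ v : V, ∃ c : R, c ≠ 0 ∧ c • v ∈ LinearMap.range g)
    (hg' : ∀ v : V', ∃ c : R, c ≠ 0 ∧ c • v ∈ LinearMap.range g')
    (a : M →ₗ[R] M') (α : V →ₗ[K] V') (hα : ∀ m, α (g m) = g' (a m))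
    {r : ℕ} (b : Basis (Fin r) K V) (b' : Basis (Fin r) K V') (hb : ∀ i, α (b i) = b' i)
    {π : R} (hπ0 : π ≠ 0) (hm : maximalIdeal R = Ideal.span {π}) (hkill : ∀ m' : M', π • m' ∈ LinearMap.range a)
    {s : ℕ} (G : Fin s → M') (hG : LinearMap.range a ⊔ Submodule.span R (Set.range G) = ⊤) :
    ∃ (δ δ' : K) (c : R) (m : ℕ), IsUnit δ ∧ IsUnit δ' ∧ δ = algebraMap R K c * δ' ∧ m ≤ s ∧ m ≤ r ∧ c ∣ π ^ m ∧
      (∀ v : Fin r → M, ∃ q : R, b.det (g ∘ v) = algebraMap R K q * δ) ∧ (∃ v, b.det (g ∘ v) = δ) ∧
      (∀ v : Fin r → M', ∃ q : R, b'.det (g' ∘ v) = algebraMap R K q * δ') ∧ (∃ v, b'.det (g' ∘ v) = δ') := by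
  classical
  obtain ⟨n, B, hB, hq⟩ := exists_lattice_basis g hg b
  obtain ⟨n', B', hB', hq'⟩ := exists_lattice_basis g' hg' b'
  choose q hq using hq
  choose q' hq' using hq'
  have huniq : ∀ x y : Fin r → R, (∑ i, x i • g' (n' i)) = ∑ i, y i • g' (n' i) → x = y := fun x y h => by
    have hli : LinearIndependent R B' := (LinearIndependent.iff_fractionRing R K).2 B'.linearIndependent
    simp only [← hB'] at h
    funext i
    exact Fintype.linearIndependent_iffₛ.1 hli x y h i
  let P : M' →ₗ[R] (Fin r → R) :=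
    { toFun := q'
      map_add' := fun x y => huniq _ _ (by
        simp only [Pi.add_apply, add_smul, Finset.sum_add_distrib, ← hq', map_add])
      map_smul' := fun c x => huniq _ _ (by
        simp only [Pi.smul_apply, smul_eq_mul, mul_smul, ← Finset.smul_sum, ← hq', map_smul, RingHom.id_apply]) }
  have hPn : ∀ j, P (n' j) = Pi.single j 1 := fun j => huniq _ _ (by
    show (∑ i, q' (n' j) i • g' (n' i)) = _
    rw [← hq']
    simp [Pi.single_apply])
  let C : Fin r → Fin r → R := fun i => P (a (n i))
  have hspanC : ∀ z ∈ LinearMap.range a, P z ∈ Submodule.span R (Set.range C) := by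
    rintro _ ⟨z, rfl⟩
    refine (Submodule.mem_span_range_iff_exists_fun R).2 ⟨q z, (huniq _ _ ?_).symm⟩
    show (∑ i, q' (a z) i • g' (n' i)) = _
    rw [← hq', ← hα, hq z, map_sum]
    simp only [Finset.sum_apply, Pi.smul_apply, Finset.sum_smul]
    rw [Finset.sum_comm]
    refine Finset.sum_congr rfl fun i _ => ?_
    rw [← algebraMap_smul K (q z i) (g (n i)), map_smul, algebraMap_smul, hα, hq' (a (n i)), Finset.smul_sum]
    exact Finset.sum_congr rfl fun j _ => by rw [smul_eq_mul, mul_smul]; rfl
  have hkill' : ∀ v : Fin r → R, π • v ∈ Submodule.span R (Set.range C) := fun v => by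
    have h1 : π • v = P (π • ∑ j, v j • n' j) := by
      rw [map_smul, map_sum]
      refine congrArg (π • ·) ?_
      simp only [map_smul, hPn]
      funext i
      simp [Pi.single_apply]
    rw [h1]
    exact hspanC _ (hkill _)
  have hG' : Submodule.span R (Set.range C) ⊔ Submodule.span R (Set.range (P ∘ G)) = ⊤ := by
    refine eq_top_iff.2 fun v _ => ?_
    obtain ⟨x, hx, y, hy, hxy⟩ := Submodule.mem_sup.1 (hG.ge (Submodule.mem_top (x := ∑ j, v j • n' j)))
    have h1 : v = P x + P y := by
      rw [← map_add, hxy, map_sum]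
      simp only [map_smul, hPn]
      funext i
      simp [Pi.single_apply]
    rw [h1]
    refine Submodule.mem_sup.2 ⟨_, hspanC x hx, _, ?_, rfl⟩
    rw [Set.range_comp, ← Submodule.map_span]
    exact ⟨y, hy, rfl⟩
  obtain ⟨m, hms, hmr, hdvd⟩ := det_dvd_pow C hπ0 hm hkill' (P ∘ G) hG'
  have h2 : b.det (g ∘ n) = algebraMap R K ((Pi.basisFun R (Fin r)).det C) * b'.det (g' ∘ n') := by
    have h3 : b'.det.compLinearMap α = b.det := by
      rw [AlternatingMap.eq_smul_basis_det b (b'.det.compLinearMap α), AlternatingMap.compLinearMap_apply,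
        show (fun i => α (b i)) = ⇑b' from funext hb, b'.det_self, one_smul]
    have h4 : b'.det (fun i => g' (a (n i))) = b.det (g ∘ n) := by
      rw [← h3, AlternatingMap.compLinearMap_apply]
      exact congrArg _ (funext fun i => (hα _).symm)
    rw [← h4, det_of_coeff b' B' (q := C) (fun i => by simp only [hB']; exact hq' _),
      show ⇑B' = g' ∘ n' from funext hB']
  refine ⟨b.det (g ∘ n), b'.det (g' ∘ n'), _, m, ?_, ?_, h2, hms, hmr, hdvd, fun v => ?_, ⟨n, rfl⟩, fun v => ?_, ⟨n', rfl⟩⟩
  · rw [show g ∘ n = ⇑B from funext fun i => (hB i).symm]; exact b.isUnit_det B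
  · rw [show g' ∘ n' = ⇑B' from funext fun i => (hB' i).symm]; exact b'.isUnit_det B'
  · refine ⟨(Pi.basisFun R (Fin r)).det fun i => q (v i), ?_⟩
    rw [det_of_coeff b B (q := fun i => q (v i)) fun i => by simp only [hB]; exact hq (v i),
      show ⇑B = g ∘ n from funext hB]
  · refine ⟨(Pi.basisFun R (Fin r)).det fun i => q' (v i), ?_⟩
    rw [det_of_coeff b' B' (q := fun i => q' (v i)) fun i => by simp only [hB']; exact hq' (v i),
      show ⇑B' = g' ∘ n' from funext hB']

end Groth.Agent.ElemTrLib
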