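import Groth.Agent.ElemTrLib.Alg
import Groth.Agent.ExtSeqLib.Stalks
import Groth.Agent.ExtPowLib.Exist
import Groth.Agent.ExtPowLib.Unique
import Groth.Agent.RefOne.Class
import Groth.Agent.DegDevLib.Wedge

/-!
# Exterior powers at the generic point
-/

set_option autoImplicit false
set_option backward.isDefEq.respectTransparency false
set_option linter.style.haveILetI false
universe u
open CategoryTheory CategoryTheory.Limits AlgebraicGeometry TopologicalSpace Module
open Groth.Agent.PullbackMod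

noncomputable section

namespace Groth.Agent.ElemTrLib

open Groth.Agent.RefOne Groth.Agent.ExtSeq

variable {X : Scheme.{u}}

theorem exists_affine_le_family {ι : Type*} [Fintype ι] {x : X} {O : X.Opens} (hO : x ∈ O) (W : ι → X.Opens)
    (hW : ∀ i, x ∈ W i) : ∃ V : X.affineOpens, x ∈ V.1 ∧ V.1 ≤ O ∧ ∀ i, V.1 ≤ W i := by
  classical
  have hx : x ∈ O ⊓ Finset.univ.inf W := by
    refine ⟨hO, ?_⟩
    show x ∈ ((Finset.univ.inf W : X.Opens) : Set X)
    rw [TopologicalSpace.Opens.coe_finset_inf]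
    simpa using hW
  obtain ⟨V, hV, hle⟩ := exists_affine_nhd hx
  exact ⟨V, hV, hle.trans inf_le_left, fun i => hle.trans (inf_le_right.trans (Finset.inf_le (Finset.mem_univ i)))⟩

/-- The rank at the points of an open on which a module is locally free. -/
theorem freeAt_of_restrict {E : X.Modules} {U : X.Opens} {r : ℕ} (hE : FlatMod.IsFinLocFreeOfRank r (E.restrict U.ι))
    {x : X} (hx : x ∈ U) : FreeAt r E x := by
  let y : U := ⟨x, hx⟩
  obtain ⟨e⟩ := CurveLib.freeAt_of_isFinLocFreeOfRank hE y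
  let σ := (asIso (U.ι.stalkMap y)).commRingCatIsoToRingEquiv
  let eS : (E.restrict U.ι).presheaf.stalk y ≃+ E.presheaf.stalk x :=
    ((Scheme.Modules.restrictStalkNatIso U.ι y).app E).addCommGroupIsoToAddEquiv
  let T : E.presheaf.stalk x ≃+ (Fin r → X.presheaf.stalk x) :=
    (eS.symm.trans e.toAddEquiv).trans (AddEquiv.piCongrRight fun _ => σ.symm.toAddEquiv)
  refine ⟨T.toLinearEquiv fun c m => ?_⟩
  obtain ⟨z, rfl⟩ := eS.surjective m
  have h1 : c • eS z = eS (σ c • z) := by
    refine ((DCohLib.restrictStalk_smul U.ι E y (σ c) z).trans ?_).symm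
    rw [RingEquiv.symm_apply_apply]
    rfl
  funext i
  show σ.symm (e (eS.symm (c • eS z)) i) = (show X.presheaf.stalk (U.ι y) from c) * σ.symm (e (eS.symm (eS z)) i)
  rw [h1, AddEquiv.symm_apply_apply, AddEquiv.symm_apply_apply, map_smul, Pi.smul_apply, smul_eq_mul, map_mul,
    RingEquiv.symm_apply_apply]

variable [IsIntegral X] {r : ℕ} {E L : X.Modules}

theorem mem_gen {V : X.Opens} {y : X} (hy : y ∈ V) : genericPoint X ∈ V := (spec_gen y).mem_open V.2 hy

/-- The decomposable section. -/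
abbrev dsec (d : EP r E L) (V : X.affineOpens) (v : Fin r → Γ(E, V.1)) : Γ(L, V.1) :=
  (d.φ V).symm (exteriorPower.ιMulti _ r v)

theorem dsec_res (d : EP r E L) {U V : X.affineOpens} (h : V.1 ≤ U.1) (v : Fin r → Γ(E, U.1)) :
    rs L h (dsec d U v) = dsec d V fun j => rs E h (v j) := d.comp U V h v

/-- Germs at the generic point of decomposable sections are given by a determinant. -/
theorem exists_genDet (d : EP r E L) (b : Basis (Fin r) (X.presheaf.stalk (genericPoint X)) (E.presheaf.stalk (genericPoint X))) :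
    ∃ w : L.presheaf.stalk (genericPoint X), w ≠ 0 ∧ ∀ (V : X.affineOpens) (hV : genericPoint X ∈ V.1) (v : Fin r → Γ(E, V.1)),
      L.presheaf.germ V.1 _ hV (dsec d V v) = b.det (fun i => E.presheaf.germ V.1 _ hV (v i)) • w := by
  classical
  choose W hW s hs using fun i => TopCat.Presheaf.exists_germ_eq E.presheaf (b i)
  obtain ⟨W₀, hW₀, -, hle⟩ := exists_affine_le_family (x := genericPoint X) (O := ⊤) trivial W hW
  let s₀ : Fin r → Γ(E, W₀.1) := fun i => rs E (hle i) (s i)
  have hs₀ : ∀ i, E.presheaf.germ W₀.1 _ hW₀ (s₀ i) = b i := fun i =>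
    (TopCat.Presheaf.germ_res_apply _ _ _ _ _).trans (hs i)
  refine ⟨L.presheaf.germ W₀.1 _ hW₀ (dsec d W₀ s₀), fun h0 => ?_, fun V hV v => ?_⟩
  · rw [← map_zero (L.presheaf.germ W₀.1 _ hW₀).hom] at h0
    obtain ⟨V, hV, i, i', hVe⟩ := exists_affine_eq _ hW₀ hW₀ _ _ h0
    rw [dsec_res] at hVe
    have h1 : exteriorPower.ιMulti Γ(X, V.1) r (fun j => rs E i (s₀ j)) = 0 := (d.φ V).symm.injective (by
      rw [map_zero]; exact hVe.trans (map_zero (L.presheaf.map (homOfLE i').op).hom))
    letI : Algebra Γ(X, V.1) (X.presheaf.stalk (genericPoint X)) := (X.presheaf.germ V.1 _ hV).hom.toAlgebra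
    letI := Module.compHom (E.presheaf.stalk (genericPoint X)) (X.presheaf.germ V.1 _ hV).hom
    haveI : IsScalarTower Γ(X, V.1) (X.presheaf.stalk (genericPoint X)) (E.presheaf.stalk (genericPoint X)) :=
      .of_algebraMap_smul fun _ _ => rfl
    let f : Γ(E, V.1) [⋀^Fin r]→ₗ[Γ(X, V.1)] X.presheaf.stalk (genericPoint X) :=
      { toFun := fun v => b.det fun j => E.presheaf.germ V.1 _ hV (v j)
        map_update_add' := fun v j x y => by
          have h : ∀ z, (fun k => E.presheaf.germ V.1 _ hV (Function.update v j z k)) =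
              Function.update (fun k => E.presheaf.germ V.1 _ hV (v k)) j (E.presheaf.germ V.1 _ hV z) := fun z =>
            funext fun k => Function.apply_update (fun _ => E.presheaf.germ V.1 _ hV) v j z k
          rw [h, h, h, map_add, AlternatingMap.map_update_add]
        map_update_smul' := fun v j c x => by
          have h : ∀ z, (fun k => E.presheaf.germ V.1 _ hV (Function.update v j z k)) =
              Function.update (fun k => E.presheaf.germ V.1 _ hV (v k)) j (E.presheaf.germ V.1 _ hV z) := fun z =>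
            funext fun k => Function.apply_update (fun _ => E.presheaf.germ V.1 _ hV) v j z k
          rw [h, h, Mero.germ_smul, AlternatingMap.map_update_smul]
          rfl
        map_eq_zero_of_eq' := fun v j k hjk hne => b.det.map_eq_zero_of_eq _
          (congrArg (fun z => E.presheaf.germ V.1 _ hV z) hjk) hne }
    have h2 := congrArg (exteriorPower.alternatingMapLinearEquiv f) h1
    rw [exteriorPower.alternatingMapLinearEquiv_apply_ιMulti, map_zero] at h2
    have h3 : f (fun j => rs E i (s₀ j)) = 1 := by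
      show b.det _ = 1
      rw [show (fun j => E.presheaf.germ V.1 _ hV (rs E i (s₀ j))) = ⇑b from funext fun j =>
        (TopCat.Presheaf.germ_res_apply _ _ _ _ _).trans (hs₀ j), b.det_self]
    exact one_ne_zero (h3.symm.trans h2)
  · choose O hO α hα using fun i : Fin r × Fin r =>
      TopCat.Presheaf.exists_germ_eq X.presheaf (b.repr (E.presheaf.germ V.1 _ hV (v i.1)) i.2)
    obtain ⟨W₁, hW₁, hle₁, hO₁⟩ := exists_affine_le_family (x := genericPoint X) (O := V.1 ⊓ W₀.1) ⟨hV, hW₀⟩ O hO
    let A : Fin r → Fin r → Γ(X, W₁.1) := fun i j => (X.presheaf.map (homOfLE (hO₁ (i, j))).op).hom (α (i, j))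
    have hA : ∀ i j, X.presheaf.germ W₁.1 _ hW₁ (A i j) = b.repr (E.presheaf.germ V.1 _ hV (v i)) j := fun i j =>
      (TopCat.Presheaf.germ_res_apply _ _ _ _ _).trans (hα (i, j))
    have heq : ∀ i, E.presheaf.germ W₁.1 _ hW₁ (rs E (hle₁.trans inf_le_left) (v i)) =
        E.presheaf.germ W₁.1 _ hW₁ (∑ j, A i j • rs E (hle₁.trans inf_le_right) (s₀ j)) := fun i => by
      rw [map_sum]
      refine (TopCat.Presheaf.germ_res_apply _ _ _ _ _).trans ((b.sum_repr _).symm.trans (Finset.sum_congr rfl fun j _ => ?_))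
      rw [Mero.germ_smul, hA]
      exact congrArg _ ((TopCat.Presheaf.germ_res_apply _ _ _ _ _).trans (hs₀ j)).symm
    choose O₂ hO₂ i₂ i₂' hO₂e using fun i => exists_affine_eq _ hW₁ hW₁ _ _ (heq i)
    obtain ⟨W₂, hW₂, hle₂, hO₂'⟩ := exists_affine_le_family (x := genericPoint X) (O := W₁.1) hW₁ (fun i => (O₂ i).1) hO₂
    let A₂ : Matrix (Fin r) (Fin r) Γ(X, W₂.1) := Matrix.of fun i j => (X.presheaf.map (homOfLE hle₂).op).hom (A i j)
    let s₂ : Fin r → Γ(E, W₂.1) := fun j => rs E (hle₂.trans (hle₁.trans inf_le_right)) (s₀ j)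
    let v₂ : Fin r → Γ(E, W₂.1) := fun i => rs E (hle₂.trans (hle₁.trans inf_le_left)) (v i)
    have hv₂ : v₂ = fun i => ∑ j, A₂ i j • s₂ j := funext fun i => by
      have h := congrArg (rs E (hO₂' i)) (hO₂e i)
      simp only [rs_rs] at h
      refine h.trans ?_
      show (E.presheaf.map _).hom _ = _
      rw [map_sum]
      refine Finset.sum_congr rfl fun j _ => ?_
      exact (rs_smul E _ _ _).trans (congrArg (_ • ·) (rs_rs E _ _ _))
    let T : (Fin r → Γ(X, W₂.1)) →ₗ[Γ(X, W₂.1)] Γ(E, W₂.1) := Fintype.linearCombination Γ(X, W₂.1) s₂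
    let g := (exteriorPower.ιMulti Γ(X, W₂.1) r (M := Γ(E, W₂.1))).compLinearMap T
    have hg : exteriorPower.ιMulti Γ(X, W₂.1) r v₂ = A₂.det • exteriorPower.ιMulti Γ(X, W₂.1) r s₂ := by
      let e := Pi.basisFun Γ(X, W₂.1) (Fin r)
      have h1 : g = (LinearMap.toSpanSingleton Γ(X, W₂.1) _ (g e)).compAlternatingMap e.det := by
        refine e.ext_alternating fun w hw => ?_
        let σ := Equiv.ofBijective w (Finite.injective_iff_bijective.1 hw)
        show g (⇑e ∘ σ) = e.det (⇑e ∘ σ) • g e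
        rw [AlternatingMap.map_perm, AlternatingMap.map_perm, e.det_self]
        simp
      have h2 : ∀ w, g w = e.det w • g e := fun w => congrArg (fun f => f w) h1
      have h3 : g e = exteriorPower.ιMulti Γ(X, W₂.1) r s₂ := by
        show (exteriorPower.ιMulti Γ(X, W₂.1) r (M := Γ(E, W₂.1))) (fun j => T (e j)) = _
        refine congrArg (exteriorPower.ιMulti Γ(X, W₂.1) r (M := Γ(E, W₂.1))) (funext fun j => ?_)
        simp [T, e, Fintype.linearCombination_apply_single]
      rw [← h3, ← show e.det (fun i => A₂ i) = A₂.det by rw [Pi.basisFun_det]; rfl, ← h2]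
      exact congrArg _ (funext fun i => by rw [hv₂]; simp [T, Fintype.linearCombination_apply])
    have h4 : L.presheaf.germ V.1 _ hV (dsec d V v) = L.presheaf.germ W₂.1 _ hW₂ (dsec d W₂ v₂) := by
      rw [← dsec_res]; exact (TopCat.Presheaf.germ_res_apply _ _ _ _ _).symm
    have h5 : L.presheaf.germ W₀.1 _ hW₀ (dsec d W₀ s₀) = L.presheaf.germ W₂.1 _ hW₂ (dsec d W₂ s₂) := by
      rw [← dsec_res]; exact (TopCat.Presheaf.germ_res_apply _ _ _ _ _).symm
    rw [h4, h5, show dsec d W₂ v₂ = A₂.det • dsec d W₂ s₂ from (congrArg (d.φ W₂).symm hg).trans (map_smul _ _ _),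
      Mero.germ_smul]
    refine congrArg (· • _) ?_
    rw [Basis.det_apply, RingHom.map_det, ← Matrix.det_transpose]
    congr 1
    ext i j
    show X.presheaf.germ W₂.1 _ hW₂ ((X.presheaf.map (homOfLE hle₂).op).hom (A j i)) = _
    rw [Basis.toMatrix_apply, ← hA j i]
    exact TopCat.Presheaf.germ_res_apply _ _ _ _ _

variable {b : Basis (Fin r) (X.presheaf.stalk (genericPoint X)) (E.presheaf.stalk (genericPoint X))}
  {w : L.presheaf.stalk (genericPoint X)}

/-- The formula for the generic germs of decomposable sections. -/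
def IsGenDet (d : EP r E L) (b : Basis (Fin r) (X.presheaf.stalk (genericPoint X)) (E.presheaf.stalk (genericPoint X)))
    (w : L.presheaf.stalk (genericPoint X)) : Prop :=
  ∀ (V : X.affineOpens) (hV : genericPoint X ∈ V.1) (v : Fin r → Γ(E, V.1)),
    L.presheaf.germ V.1 _ hV (dsec d V v) = b.det (fun i => E.presheaf.germ V.1 _ hV (v i)) • w

theorem exists_mem_toGen {d : EP r E L} (H : IsGenDet d b w) (y : X) (v : Fin r → E.presheaf.stalk y) :
    ∃ z : L.presheaf.stalk y, toGen L y z = b.det (fun i => toGen E y (v i)) • w := by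
  choose W hW s hs using fun i => TopCat.Presheaf.exists_germ_eq E.presheaf (v i)
  obtain ⟨V, hV, -, hle⟩ := exists_affine_le_family (x := y) (O := ⊤) trivial W hW
  refine ⟨L.presheaf.germ V.1 y hV (dsec d V fun i => rs E (hle i) (s i)), ?_⟩
  rw [toGen_germ, H V (mem_gen hV)]
  refine congrArg (fun f => b.det f • w) (funext fun i => ?_)
  rw [← hs i, toGen_germ]
  exact TopCat.Presheaf.germ_res_apply _ _ _ _ _

theorem toGen_mem {d : EP r E L} (H : IsGenDet d b w) (y : X) {δ : X.presheaf.stalk (genericPoint X)}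
    (hδ : ∀ v : Fin r → E.presheaf.stalk y, ∃ q, b.det (fun i => toGen E y (v i)) = toK y q * δ)
    (z : L.presheaf.stalk y) : ∃ q, toGen L y z = (toK y q * δ) • w := by
  obtain ⟨V, hV, s, rfl⟩ := exists_germ_affine y z
  rw [toGen_germ, show s = (d.φ V).symm (d.φ V s) from ((d.φ V).symm_apply_apply s).symm]
  refine ExtPowLib.induction_ιMulti r
    (P := fun e => ∃ q, L.presheaf.germ V.1 _ (mem_gen hV) ((d.φ V).symm e) = (toK y q * δ) • w) ?_ ?_ ?_ (d.φ V s)
  · exact ⟨0, by rw [map_zero, map_zero, map_zero, zero_mul, zero_smul]⟩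
  · rintro a c ⟨q, hq⟩ ⟨q', hq'⟩
    exact ⟨q + q', by rw [map_add, map_add, hq, hq', map_add, add_mul, add_smul]⟩
  · intro c v
    obtain ⟨q, hq⟩ := hδ fun i => E.presheaf.germ V.1 y hV (v i)
    refine ⟨X.presheaf.germ V.1 y hV c * q, ?_⟩
    rw [map_smul, Mero.germ_smul, H V (mem_gen hV), ← mul_smul, map_mul, toK_germ, mul_assoc, ← hq]
    simp only [toGen_germ]

theorem toGen_id (M : X.Modules) (v : M.presheaf.stalk (genericPoint X)) : toGen M (genericPoint X) v = v := by
  obtain ⟨U, hU, s, rfl⟩ := TopCat.Presheaf.exists_germ_eq M.presheaf v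
  exact toGen_germ M _ hU s

theorem bijective_smul_w {d : EP r E L} (H : IsGenDet d b w) (hw : w ≠ 0) :
    Function.Bijective fun c : X.presheaf.stalk (genericPoint X) => c • w := by
  refine ⟨fun a c h => ?_, fun z => ?_⟩
  · by_contra hne
    obtain ⟨e, he⟩ := (isField_gen (X := X)).mul_inv_cancel (sub_ne_zero.2 hne)
    refine hw ?_
    rw [← one_smul (X.presheaf.stalk (genericPoint X)) w, ← he, mul_comm, mul_smul, sub_smul]
    exact (congrArg (e • ·) (sub_eq_zero.2 h)).trans (smul_zero e)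
  · have hid : ∀ q, toK (X := X) (genericPoint X) q = q := fun q => by
      obtain ⟨U, hU, s, rfl⟩ := TopCat.Presheaf.exists_germ_eq X.presheaf q
      exact toK_germ _ hU s
    obtain ⟨q, hq⟩ := toGen_mem H (genericPoint X) (δ := 1) (fun v => ⟨b.det fun i => toGen E _ (v i), by
      rw [hid, mul_one]⟩) z
    rw [toGen_id] at hq
    exact ⟨_, hq.symm⟩

end Groth.Agent.ElemTrLib
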