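import Groth.Agent.ElemTrLib.GenDet
import Groth.Agent.S16085
import Groth.Agent.S16491
import Groth.Agent.RefOne.Divisor
import Groth.Agent.AmpleLib.Tensor

/-!
# Divisors of reflexive hulls
-/

set_option autoImplicit false
set_option backward.isDefEq.respectTransparency false
set_option linter.style.haveILetI false
universe u
open CategoryTheory CategoryTheory.Limits AlgebraicGeometry TopologicalSpace Module
open Groth.Agent.PullbackMod

noncomputable section

namespace Groth.Agent.ElemTrLib

open Groth.Agent.RefOne Groth.Agent.DCohLib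

variable {X : Scheme.{u}} [IsIntegral X] [IsLocallyNoetherian X]

/-- A lattice generator generates the stalk of the reflexive hull. -/
theorem span_bidual {M : X.Modules} (hM : Coh.IsCoh M) {y : X} {t : M.presheaf.stalk y} (ht0 : toGen M y t ≠ 0)
    (h : ∀ z, ∃ q, toGen M y z = toK y q • toGen M y t) :
    Submodule.span (X.presheaf.stalk y) {stalkLin (RefHull.bidualMap M) y t} = ⊤ := by
  haveI := hM.1
  obtain ⟨E, hE⟩ := exists_bidual_equiv hM y
  choose q hq using h
  have htf : ∀ a : X.presheaf.stalk y, toK y a • toGen M y t = 0 → a = 0 := fun a ha => by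
    by_contra hne
    obtain ⟨e, he⟩ := (isField_gen (X := X)).mul_inv_cancel (fun h0 => hne (toK_injective y (h0.trans (map_zero _).symm)))
    refine ht0 ?_
    rw [← one_smul (X.presheaf.stalk (genericPoint X)) (toGen M y t), ← he, mul_comm, mul_smul, ha, smul_zero]
  have huniq : ∀ a c : X.presheaf.stalk y, toK y a • toGen M y t = toK y c • toGen M y t → a = c := fun a c h =>
    sub_eq_zero.1 (htf _ (by rw [map_sub, sub_smul, h, sub_self]))
  let θ : Dual (X.presheaf.stalk y) (M.presheaf.stalk y) :=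
    { toFun := q
      map_add' := fun a c => huniq _ _ (by
        rw [← hq, map_add, add_smul, ← hq, ← hq]; exact map_add _ a c)
      map_smul' := fun a c => huniq _ _ (by
        rw [← hq, RingHom.id_apply, smul_eq_mul, map_mul, mul_smul, ← hq, toGen_smul]) }
  refine eq_top_iff.2 fun Φ _ => Submodule.mem_span_singleton.2 ⟨E Φ θ, E.injective (LinearMap.ext fun f => ?_)⟩
  rw [map_smul, LinearMap.smul_apply, show E (stalkLin (RefHull.bidualMap M) y t) = Dual.eval _ _ t from congrFun hE t,
    Dual.eval_apply, smul_eq_mul]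
  have hf : f = f t • θ := by
    refine LinearMap.ext fun z => ?_
    have h0 : toGen M y (z - q z • t) = 0 := by
      rw [show toGen M y (z - q z • t) = toGen M y z - toGen M y (q z • t) from map_sub _ _ _, toGen_smul, ← hq, sub_self]
    obtain ⟨a, ha, haz⟩ := toGen_eq_zero h0
    have h1 : a * (f z - q z * f t) = 0 := by
      have h2 := congrArg f haz
      simpa [map_sub] using h2
    show f z = f t * q z
    rw [sub_eq_zero.1 ((mul_eq_zero.1 h1).resolve_left ha), mul_comm]
  conv_rhs => rw [hf, map_smul, smul_eq_mul, mul_comm]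

/-- The divisor of the hull of a module of generic rank one. -/
theorem hasDiv_ddual {M : X.Modules} (hM : Coh.IsCoh M) {w : M.presheaf.stalk (genericPoint X)}
    (hw : Function.Bijective fun c : X.presheaf.stalk (genericPoint X) => c • w) (d : X → ℤ)
    (h : ∀ y : X, Order.coheight y = 1 → ∃ (t : M.presheaf.stalk y) (δ : X.presheaf.stalk (genericPoint X)),
      IsUnit δ ∧ toGen M y t = δ • w ∧ (∀ z, ∃ q, toGen M y z = (toK y q * δ) • w) ∧
        d y = - Scheme.ord (show X.functionField from δ) y) :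
    S16085.HasDiv (RefHull.ddual M) d := by
  haveI := hM.1
  obtain ⟨g, hg⟩ := exists_gen_generic (isRef1_dual hM hw).2.2
  have hR : RefHull.IsRef1 (RefHull.ddual M) := isRef1_dual (isCoh_dual hM) hg
  haveI := hR.1.1
  have hb := bijective_bidual_of_bijective hM hw
  have hw0 : w ≠ 0 := fun h0 => one_ne_zero (α := X.presheaf.stalk (genericPoint X))
    (hw.1 (show (1 : X.presheaf.stalk (genericPoint X)) • w = (0 : X.presheaf.stalk (genericPoint X)) • w by
      rw [h0, smul_zero, smul_zero]))
  refine ⟨hR, Submodule.Quotient.mk (stalkLin (RefHull.bidualMap M) (genericPoint X) w), fun h0 => hw0 (hb.1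
    (((bijective_mk_fibre _).1 h0).trans (map_zero _).symm)), fun y hy => ?_⟩
  obtain ⟨t, δ, hδ, ht, hspan, hd⟩ := h y hy
  obtain ⟨u, rfl⟩ := hδ
  have ht0 : toGen M y t ≠ 0 := fun h0 => hw0 (by
    rw [← one_smul (X.presheaf.stalk (genericPoint X)) w, ← Units.inv_mul u, mul_smul, ← ht, h0, smul_zero])
  have hT := span_bidual hM ht0 fun z => by
    obtain ⟨q, hq⟩ := hspan z
    exact ⟨q, by rw [hq, ht, mul_smul]⟩
  have hT' : toGen (RefHull.ddual M) y (stalkLin (RefHull.bidualMap M) y t) =
      (↑u : X.presheaf.stalk (genericPoint X)) • stalkLin (RefHull.bidualMap M) (genericPoint X) w := by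
    rw [← stalkLin_toGen, ht, map_smul]
  rw [secOrdAt_eq hy _ hT (by
      rw [← stalkLin_toGen]; exact fun h0 => ht0 (hb.1 (h0.trans (map_zero _).symm)))
    (φ := (↑u⁻¹ : X.presheaf.stalk (genericPoint X))) (by rw [hT', ← mul_smul, Units.inv_mul, one_smul]), hd]
  have hu : (show X.functionField from ↑u⁻¹) = (show X.functionField from ↑u)⁻¹ :=
    eq_inv_of_mul_eq_one_left (show (↑u⁻¹ : X.presheaf.stalk (genericPoint X)) * ↑u = 1 from Units.inv_mul u)
  rw [hu, scheme_ord_inv (u.ne_zero)]

/-- Tensor products of invertible modules add divisors. -/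
theorem hasDiv_tensor_invertible (hX : Pi1.IsNormalScheme X) {F G : X.Modules} {d d' : X → ℤ}
    (h : S16085.HasDiv F d) (h' : S16085.HasDiv G d') (hF : PicF.IsInvertible F) (hG : PicF.IsInvertible G) :
    S16085.HasDiv (CohB1.tensorMod F G) (fun y => d y + d' y) := by
  have hT := CurveLib.isCoh_tmod h.1.1 h'.1.1
  have hinv := AmpleLib.isInvertible_tensor hF hG
  have hgen : ∀ x : X, ∃ t : (tmod F G).presheaf.stalk x, Function.Bijective fun c : X.presheaf.stalk x => c • t := fun x => by
    obtain ⟨W, s, hxW, hs⟩ := ParaFLib.exists_gen_nhd hinv x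
    exact ⟨_, hs.bijective_germ x hxW⟩
  haveI : IsIso (RefHull.bidualMap (tmod F G)) := (isIso_iff_stalk _).2 fun x => by
    obtain ⟨t, ht⟩ := hgen x
    exact bijective_bidual_of_bijective hT ht
  refine S16085.hasDiv_of_iso hX (asIso (RefHull.bidualMap (tmod F G))).symm ?_ (S16085.hasDiv_tensor hX h h')
  obtain ⟨t, ht⟩ := hgen (genericPoint X)
  exact ⟨hT, inferInstanceAs (IsIso (RefHull.bidualMap (tmod F G))), genInvertible_of_gen hT ht⟩

theorem isInvertible_of_hasDiv (hreg : ∀ x : X, IsRegularLocalRing (X.presheaf.stalk x)) {F : X.Modules} {d : X → ℤ}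
    (h : S16085.HasDiv F d) : PicF.IsInvertible F :=
  S16491.result X hreg F h.1.1 h.1.2.1 h.1.2.2

theorem hasDiv_tensorPow (hX : Pi1.IsNormalScheme X) {F : X.Modules} {d : X → ℤ} (h : S16085.HasDiv F d)
    (hF : PicF.IsInvertible F) : ∀ k : ℕ, S16085.HasDiv (CohB1.tensorPow F k) (fun y => (k : ℤ) * d y)
  | 0 => by simpa [CohB1.tensorPow] using S16085.hasDiv_one hX
  | k + 1 => by
    have h1 := hasDiv_tensor_invertible hX (hasDiv_tensorPow hX h hF k) h (AmpleLib.isInvertible_tensorPow hF k) hF
    simpa [CohB1.tensorPow, add_mul] using h1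

/-- The dual of an ideal that is `m^E` at the points of codimension at most one. -/
theorem hasDiv_dual_idealMod (hX : Pi1.IsNormalScheme X) (J : X.IdealSheafData) (E : X → ℕ)
    (hη : IntMult.stalkIdeal J (genericPoint X) = ⊤)
    (hJ : ∀ y : X, Order.coheight y = 1 → IntMult.stalkIdeal J y = IsLocalRing.maximalIdeal (X.presheaf.stalk y) ^ E y) :
    S16085.HasDiv (RefHull.dual (ClSub.idealMod J)) (fun y => (E y : ℤ)) := by
  let η := genericPoint X
  have hc := isCoh_idealMod J
  haveI := hc.1
  obtain ⟨σ, hσ⟩ := ((idealModι_stalk J η).2 1).2 (by rw [hη]; trivial)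
  have hbσ : Function.Bijective fun r : X.presheaf.stalk η => r • σ := by
    refine ⟨fun a b hab => ?_, fun m => ?_⟩
    · have h1 := congrArg (stalkLin (ClSub.idealModι J) η) hab
      dsimp only at h1
      rw [map_smul, map_smul, hσ, ← map_smul, ← map_smul, smul_eq_mul, smul_eq_mul, mul_one, mul_one] at h1
      exact (oEquiv η).injective h1
    · obtain ⟨r, hr⟩ := (oEquiv η).surjective (stalkLin (ClSub.idealModι J) η m)
      refine ⟨r, (idealModι_stalk J η).1 ?_⟩
      dsimp only
      rw [map_smul, hσ, ← map_smul, smul_eq_mul, mul_one, hr]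
  have hσ0 : σ ≠ 0 := fun h => by
    rw [h, map_zero] at hσ
    exact one_ne_zero ((oEquiv η).map_eq_zero_iff.1 hσ.symm)
  obtain ⟨θ, hθ, hR, hord⟩ := S16087.exists_ref1_ord hX hc hσ0 hbσ (fun y => -(E y : ℤ)) fun y hy => by
    haveI := isDVR hX hy
    obtain ⟨p, hp⟩ := IsDiscreteValuationRing.exists_irreducible (X.presheaf.stalk y)
    obtain ⟨t, ht⟩ := ((idealModι_stalk J y).2 (p ^ E y)).2 (by
      rw [hJ y hy, hp.maximalIdeal_eq, Ideal.span_singleton_pow]
      exact Ideal.mem_span_singleton_self _)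
    have hbt : Function.Bijective fun r : X.presheaf.stalk y => r • t := by
      refine ⟨fun a b hab => ?_, fun m => ?_⟩
      · have h1 := congrArg (stalkLin (ClSub.idealModι J) y) hab
        dsimp only at h1
        rw [map_smul, map_smul, ht, ← map_smul, ← map_smul, smul_eq_mul, smul_eq_mul] at h1
        exact mul_right_cancel₀ (pow_ne_zero _ hp.ne_zero) ((oEquiv y).injective h1)
      · obtain ⟨r, hr⟩ := (oEquiv y).surjective (stalkLin (ClSub.idealModι J) y m)
        have h1 : r ∈ IntMult.stalkIdeal J y := ((idealModι_stalk J y).2 r).1 ⟨m, hr.symm⟩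
        rw [hJ y hy, hp.maximalIdeal_eq, Ideal.span_singleton_pow, Ideal.mem_span_singleton'] at h1
        obtain ⟨q, rfl⟩ := h1
        refine ⟨q, (idealModι_stalk J y).1 ?_⟩
        dsimp only
        rw [map_smul, ht, ← map_smul, smul_eq_mul, hr]
    refine ⟨t, hbt, ?_⟩
    let P : X.functionField := toK y (p ^ E y)
    have hP : P ≠ 0 := fun h => pow_ne_zero _ hp.ne_zero (toK_injective y (h.trans (map_zero _).symm))
    have hφ : σ = (show X.presheaf.stalk η from P⁻¹) • toGen (ClSub.idealMod J) y t := by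
      refine (idealModι_stalk J η).1 ?_
      rw [map_smul, stalkLin_toGen, ht, hσ, toGen_oEquiv, ← map_smul, smul_eq_mul]
      exact congrArg _ (inv_mul_cancel₀ hP).symm
    rw [secOrdAt_eq hy σ (span_of_bijective hbt) (toGen_ne_zero hbt) hφ]
    show Scheme.ord P⁻¹ y = _
    rw [scheme_ord_inv hP, scheme_ord_toK hy (pow_ne_zero _ hp.ne_zero), Ring.ord_eq_addVal, hp.addVal_pow]
    rfl
  exact ⟨hR, Submodule.Quotient.mk θ, fun h0 => hθ ((bijective_mk_fibre _).1 h0), fun y hy => (hord y hy).trans (neg_neg _)⟩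

end Groth.Agent.ElemTrLib
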